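import Groth.Agent.Lib.FreeRes.EssFree
import Mathlib.CategoryTheory.Monoidal.Cartesian.Over
import Mathlib.AlgebraicGeometry.Morphisms.Separated

/-!
# Closed transporters in `Over S` along an essentially free object
-/

universe u

open CategoryTheory CategoryTheory.Limits AlgebraicGeometry MonoidalCategory CartesianMonoidalCategory
open Groth.Agent.Lib Groth.Agent.Lib.HilbD Groth.Agent.Lib.Lim

namespace Groth.Agent.Lib.FreeRes

set_option linter.style.haveILetI false

variable {S : Scheme.{u}} {P X W Y T : Over S}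

theorem isPullback_fst (P X : Over S) :
    IsPullback (snd P X).left (fst P X).left X.hom P.hom :=
  (IsPullback.of_hasPullback P.hom X.hom).flip

theorem isPullback_whiskerRight (g : T ⟶ P) :
    IsPullback (g ▷ X).left (fst T X).left (fst P X).left g.left := by
  refine IsPullback.of_right ?_ ?_ (isPullback_fst P X)
  · rw [← Over.comp_left, whiskerRight_snd, Over.w g]
    exact isPullback_fst T X
  · rw [← Over.comp_left, ← Over.comp_left, whiskerRight_fst]

theorem exists_lift_iff_ker (y : Y ⟶ W) [IsClosedImmersion y.left] (h : T ⟶ W) :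
    (∃ l : T ⟶ Y, l ≫ y = h) ↔ y.left.ker.comap h.left = ⊥ := by
  rw [← le_bot_iff, ← Scheme.IdealSheafData.le_map_iff_comap_le, Scheme.IdealSheafData.map_bot]
  constructor
  · rintro ⟨l, rfl⟩
    exact Scheme.Hom.le_ker_comp _ _
  · intro hle
    have e := IsClosedImmersion.lift_fac y.left h.left hle
    exact ⟨Over.homMk (IsClosedImmersion.lift y.left h.left hle)
      (by rw [← Over.w y, reassoc_of% e, Over.w h]), Over.OverMorphism.ext e⟩

/-- **Closed transporter.** -/
theorem exists_closed_factor (hX : SGA3x.IsEssentiallyFree X.hom) (u : P ⊗ X ⟶ W) (y : Y ⟶ W)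
    [IsClosedImmersion y.left] :
    ∃ (C : Over S) (c : C ⟶ P), IsClosedImmersion c.left ∧
      (∀ {T : Over S} (g : T ⟶ P), (∃ z, z ≫ c = g) ↔ ∃ l, l ≫ y = (g ▷ X) ≫ u) ∧
      (QuasiCompact X.hom → LocallyOfFinitePresentation y.left →
        LocallyOfFinitePresentation c.left) := by
  obtain ⟨I, hI, hfg⟩ := exists_represents (isEssentiallyFree_baseChange hX (isPullback_fst P X))
    (y.left.ker.comap u.left)
  let c : Over.mk (I.subschemeι ≫ P.hom) ⟶ P := Over.homMk I.subschemeι
  haveI : IsClosedImmersion c.left := inferInstanceAs (IsClosedImmersion I.subschemeι)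
  refine ⟨_, c, this, fun {T} g => ?_, fun hqc hy => ?_⟩
  · rw [exists_lift_iff_ker y, Over.comp_left, Scheme.IdealSheafData.comap_comp,
      ← hI _ _ _ (isPullback_whiskerRight g), ← Basic.exists_lift_iff]
    constructor
    · rintro ⟨z, rfl⟩
      exact ⟨z.left, rfl⟩
    · rintro ⟨z, hz⟩
      exact ⟨Over.homMk z (by
        show z ≫ I.subschemeι ≫ P.hom = T.hom
        rw [reassoc_of% hz, Over.w g]), Over.OverMorphism.ext hz⟩
  · refine IdealFP.lfp_subschemeι I (hfg ?_ (isFG_comap _ (Approx.Integral.isFG_ker_of_lfp y.left)))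
    exact MorphismProperty.of_isPullback (isPullback_fst P X) hqc

/-- **Closed equalizer transporter.** -/
theorem exists_closed_eq (hX : SGA3x.IsEssentiallyFree X.hom) [IsSeparated W.hom]
    (u v : P ⊗ X ⟶ W) :
    ∃ (C : Over S) (c : C ⟶ P), IsClosedImmersion c.left ∧
      (∀ {T : Over S} (g : T ⟶ P), (∃ z, z ≫ c = g) ↔ (g ▷ X) ≫ u = (g ▷ X) ≫ v) := by
  let Δ : W ⟶ W ⊗ W := lift (𝟙 W) (𝟙 W)
  haveI : IsClosedImmersion Δ.left := by
    have : Δ.left = pullback.diagonal W.hom := pullback.hom_ext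
      ((congrArg CommaMorphism.left (lift_fst (𝟙 W) (𝟙 W))).trans
        (pullback.diagonal_fst W.hom).symm)
      ((congrArg CommaMorphism.left (lift_snd (𝟙 W) (𝟙 W))).trans
        (pullback.diagonal_snd W.hom).symm)
    rw [this]
    infer_instance
  obtain ⟨C, c, hc, hC, -⟩ := exists_closed_factor hX (lift u v) Δ
  refine ⟨C, c, hc, fun g => (hC g).trans ⟨?_, fun h => ⟨(g ▷ X) ≫ u, ?_⟩⟩⟩
  · rintro ⟨l, hl⟩
    have h1 := congrArg (· ≫ fst W W) hl
    have h2 := congrArg (· ≫ snd W W) hl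
    simp only [Δ, Category.assoc, lift_fst, lift_snd, Category.comp_id] at h1 h2
    exact h1.symm.trans h2
  · apply CartesianMonoidalCategory.hom_ext <;> simp [Δ, h]

/-- A condition on pairs is checked on the universal pair. -/
theorem forall_pair_iff (g : T ⟶ P) (u v : P ⊗ X ⟶ W) :
    (g ▷ X) ≫ u = (g ▷ X) ≫ v ↔
      ∀ (T' : Over S) (s : T' ⟶ T) (x : T' ⟶ X), lift (s ≫ g) x ≫ u = lift (s ≫ g) x ≫ v := by
  constructor
  · intro h T' s x
    have := congrArg (lift s x ≫ ·) h
    simpa only [lift_whiskerRight_assoc] using this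
  · intro h
    have := h _ (fst T X) (snd T X)
    rwa [show lift (fst T X ≫ g) (snd T X) = g ▷ X by
      apply CartesianMonoidalCategory.hom_ext <;> simp] at this

theorem forall_pair_factor_iff (g : T ⟶ P) (u : P ⊗ X ⟶ W) (y : Y ⟶ W) :
    (∃ l, l ≫ y = (g ▷ X) ≫ u) ↔
      ∀ (T' : Over S) (s : T' ⟶ T) (x : T' ⟶ X), ∃ l, lift (s ≫ g) x ≫ u = l ≫ y := by
  constructor
  · rintro ⟨l, hl⟩ T' s x
    exact ⟨lift s x ≫ l, by rw [Category.assoc, hl, lift_whiskerRight_assoc]⟩
  · intro h
    obtain ⟨l, hl⟩ := h _ (fst T X) (snd T X)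
    refine ⟨l, ?_⟩
    rw [← hl]
    congr 1

end Groth.Agent.Lib.FreeRes
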