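import Groth.Agent.Lib.FreeRes.Affine
import Groth.Prelude.Def_SGA3x

/-!
# Vanishing loci for essentially free morphisms
-/

universe u

open CategoryTheory CategoryTheory.Limits AlgebraicGeometry TopologicalSpace
open Groth.Agent.Lib Groth.Agent.Lib.HilbD Groth.Agent.Lib.Lim
open scoped TensorProduct

namespace Groth.Agent.Lib.FreeRes

set_option linter.style.haveILetI false

variable {Z S Z' S' : Scheme.{u}} {f : Z ⟶ S}

theorem Represents.unique {K : Z.IdealSheafData} {I J : S.IdealSheafData} (hI : Represents f K I)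
    (hJ : Represents f K J) : I = J :=
  eq_of_forall_iff fun k => (hI _ _ k (IsPullback.of_hasPullback f k)).trans
    (hJ _ _ k (IsPullback.of_hasPullback f k)).symm

theorem projCovered_baseChange [IsAffine S] [IsAffine S'] (hf : ProjCovered f) {g' : Z' ⟶ Z}
    {π' : Z' ⟶ S'} {g : S' ⟶ S} (sq : IsPullback g' π' f g) : ProjCovered π' := by
  intro z
  obtain ⟨V, hxV, hV, hP⟩ := hf (g' z)
  haveI : IsAffine (V : Scheme.{u}) := hV
  have sqV := (isPullback_morphismRestrict g' V).paste_vert sq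
  haveI : IsAffineHom ((g' ⁻¹ᵁ V).ι ≫ π') := MorphismProperty.of_isPullback sqV inferInstance
  haveI : IsAffine ((g' ⁻¹ᵁ V : Z'.Opens) : Scheme.{u}) := isAffine_of_isAffineHom ((g' ⁻¹ᵁ V).ι ≫ π')
  refine ⟨g' ⁻¹ᵁ V, hxV, ‹IsAffine ((g' ⁻¹ᵁ V : Z'.Opens) : Scheme.{u})›, ?_⟩
  let A : Type u := Γ(S, ⊤)
  let A' : Type u := Γ(S', ⊤)
  let C : Type u := Γ((V : Scheme.{u}), ⊤)
  let C' : Type u := Γ((g' ⁻¹ᵁ V : Z'.Opens).toScheme, ⊤)
  letI : Algebra A C := (V.ι ≫ f).appTop.hom.toAlgebra
  haveI : Module.Projective A C := hP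
  letI : Algebra A A' := g.appTop.hom.toAlgebra
  letI : Algebra A' C' := ((g' ⁻¹ᵁ V).ι ≫ π').appTop.hom.toAlgebra
  letI : Algebra C C' := (g' ∣_ V).appTop.hom.toAlgebra
  letI : Algebra A C' := (((g' ⁻¹ᵁ V).ι ≫ π').appTop.hom.comp g.appTop.hom).toAlgebra
  haveI : IsScalarTower A A' C' := .of_algebraMap_eq' rfl
  have hpush := (Content.isPushout_appLE sqV ⟨⊤, isAffineOpen_top S⟩ ⟨⊤, isAffineOpen_top S'⟩
    le_top le_top)
  haveI : IsScalarTower A C C' := .of_algebraMap_eq' (by
    have := congrArg Scheme.Hom.appTop sqV.w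
    rw [Scheme.Hom.comp_appTop, Scheme.Hom.comp_appTop] at this
    exact congrArg CommRingCat.Hom.hom this.symm)
  have hp : Algebra.IsPushout A A' C C' :=
    CommRingCat.isPushout_iff_isPushout.mp (by
      have e1 : g.appLE ⊤ ⊤ le_top = g.appTop := (Scheme.Hom.app_eq_appLE g).symm
      have e2 : (g' ∣_ V).appLE ⊤ ⊤ le_top = (g' ∣_ V).appTop :=
        (Scheme.Hom.app_eq_appLE (g' ∣_ V)).symm
      have h' := hpush
      erw [e1, e2] at h'
      exact h')
  exact Module.Projective.of_equiv hp.out.equiv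

/-- Essentially free morphisms are stable under base change. -/
theorem isEssentiallyFree_baseChange (hf : SGA3x.IsEssentiallyFree f) {g' : Z' ⟶ Z}
    {π' : Z' ⟶ S'} {g : S' ⟶ S} (sq : IsPullback g' π' f g) : SGA3x.IsEssentiallyFree π' := by
  intro s'
  obtain ⟨U, hsU, hU, T, hT, p, hp1, hp2, hproj⟩ := hf (g s')
  obtain ⟨U', hU', hs', hle⟩ := exists_isAffineOpen_mem_and_subset (show s' ∈ g ⁻¹ᵁ U from hsU)
  haveI : IsAffine (U : Scheme.{u}) := hU
  haveI : IsAffine (U' : Scheme.{u}) := hU'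
  let h : (U' : Scheme.{u}) ⟶ U := g.resLE U U' hle
  refine ⟨U', hs', hU', pullback p h, inferInstance, pullback.snd p h, inferInstance, inferInstance, ?_⟩
  have e : (pullback.snd p h ≫ U'.ι) ≫ g = pullback.fst p h ≫ (p ≫ U.ι) := by
    rw [Category.assoc, ← Scheme.Hom.resLE_comp_ι g hle, ← Category.assoc, ← pullback.condition,
      Category.assoc]
  let l : pullback π' (pullback.snd p h ≫ U'.ι) ⟶ pullback f (p ≫ U.ι) :=
    pullback.lift (pullback.fst _ _ ≫ g') (pullback.snd _ _ ≫ pullback.fst p h) (by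
      rw [Category.assoc, sq.w, pullback.condition_assoc]
      simp only [Category.assoc] at e ⊢
      rw [e])
  have s1 : IsPullback l (pullback.snd π' (pullback.snd p h ≫ U'.ι)) (pullback.snd f (p ≫ U.ι))
      (pullback.fst p h) := by
    refine IsPullback.of_right ?_ (pullback.lift_snd _ _ _) (IsPullback.of_hasPullback f (p ≫ U.ι))
    rw [pullback.lift_fst, ← e]
    exact (IsPullback.of_hasPullback π' (pullback.snd p h ≫ U'.ι)).paste_horiz sq
  haveI := hT
  exact projCovered_baseChange hproj s1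

/-- A projective cover on each affine open of a cover of the base gives an essentially free morphism. -/
theorem isEssentiallyFree_of_local
    (h : ∀ s : S, ∃ U : S.Opens, s ∈ U ∧ IsAffineOpen U ∧ ∃ (Z' : Scheme.{u}) (g' : Z' ⟶ Z)
      (π' : Z' ⟶ U), IsPullback g' π' f U.ι ∧ ProjCovered π') :
    SGA3x.IsEssentiallyFree f := by
  intro s
  obtain ⟨U, hsU, hU, Z', g', π', sq, hP⟩ := h s
  haveI : IsAffine (U : Scheme.{u}) := hU
  refine ⟨U, hsU, hU, U, hU, 𝟙 _, inferInstance, inferInstance, ?_⟩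
  let l : pullback f (𝟙 (U : Scheme.{u}) ≫ U.ι) ⟶ Z' :=
    sq.lift (pullback.fst _ _) (pullback.snd _ _) (by rw [pullback.condition, Category.id_comp])
  have s1 : IsPullback l (pullback.snd f (𝟙 (U : Scheme.{u}) ≫ U.ι)) π' (𝟙 _) := by
    refine IsPullback.of_right ?_ (by rw [sq.lift_snd, Category.comp_id]) sq
    rw [sq.lift_fst]
    exact IsPullback.of_hasPullback _ _
  exact projCovered_baseChange hP s1

/-- A morphism to the spectrum of a field is essentially free. -/
theorem isEssentiallyFree_field {k : Type u} [Field k] (f : Z ⟶ Spec (CommRingCat.of k)) :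
    SGA3x.IsEssentiallyFree f := by
  refine isEssentiallyFree_of_local fun s => ?_
  refine ⟨⊤, trivial, isAffineOpen_top _, Z, 𝟙 Z, f ≫ (Scheme.topIso _).inv, ?_, ?_⟩
  · haveI : IsIso ((⊤ : (Spec (CommRingCat.of k)).Opens)).ι := by
      rw [← Scheme.topIso_hom]; infer_instance
    exact IsPullback.of_horiz_isIso ⟨by rw [Category.id_comp, Category.assoc, ← Scheme.topIso_hom, Iso.inv_hom_id, Category.comp_id]⟩
  · intro x
    obtain ⟨V, hV, hxV, -⟩ := exists_isAffineOpen_mem_and_subset (show x ∈ (⊤ : Z.Opens) from trivial)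
    refine ⟨V, hxV, hV, ?_⟩
    letI : Algebra Γ((⊤ : (Spec (CommRingCat.of k)).Opens).toScheme, ⊤) Γ((V : Scheme.{u}), ⊤) :=
      ((V.ι ≫ f ≫ (Scheme.topIso _).inv)).appTop.hom.toAlgebra
    have hF : IsField Γ((⊤ : (Spec (CommRingCat.of k)).Opens).toScheme, ⊤) :=
      (((⊤ : (Spec (CommRingCat.of k)).Opens).topIso ≪≫
        Scheme.ΓSpecIso (CommRingCat.of k)).commRingCatIsoToRingEquiv.toMulEquiv).isField
        (Field.toIsField k)
    letI := hF.toField
    infer_instance

/-- **The vanishing locus for an essentially free morphism.** -/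
theorem exists_represents (hf : SGA3x.IsEssentiallyFree f) (K : Z.IdealSheafData) :
    ∃ I : S.IdealSheafData, Represents f K I ∧
      (QuasiCompact f → IdealExt.IsFG K → IdealExt.IsFG I) := by
  choose U hsU hU T hT p hp1 hp2 hproj using hf
  have hU_top : (⨆ s, U s) = ⊤ :=
    eq_top_iff.mpr fun s _ => TopologicalSpace.Opens.mem_iSup.mpr ⟨s, hsU s⟩
  have hlocal : ∀ s, ∃ J : (U s : Scheme.{u}).IdealSheafData,
      Represents (pullback.snd f (U s).ι) (K.comap (pullback.fst f (U s).ι)) J ∧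
      (QuasiCompact f → IdealExt.IsFG K → IdealExt.IsFG J) := fun s => by
    haveI : IsAffine (U s : Scheme.{u}) := hU s
    haveI := hT s
    haveI := hp1 s
    haveI := hp2 s
    haveI : QuasiCompact (p s) := inferInstance
    obtain ⟨J', hJ', hfg'⟩ := exists_represents_projCovered _ (hproj s)
      (K.comap (pullback.fst f (p s ≫ (U s).ι)))
    let l : pullback f (p s ≫ (U s).ι) ⟶ pullback f (U s).ι :=
      pullback.lift (pullback.fst _ _) (pullback.snd _ _ ≫ p s)
        (by rw [pullback.condition, Category.assoc])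
    have sql : IsPullback l (pullback.snd f (p s ≫ (U s).ι)) (pullback.snd f (U s).ι) (p s) := by
      refine IsPullback.of_right ?_ (pullback.lift_snd _ _ _) (IsPullback.of_hasPullback _ _)
      rw [pullback.lift_fst]
      exact IsPullback.of_hasPullback _ _
    obtain ⟨J, hJ, -, hJfg⟩ := exists_represents_of_cover sql
      (K := K.comap (pullback.fst f (U s).ι)) (I' := J') (by
        rw [← Scheme.IdealSheafData.comap_comp, pullback.lift_fst]; exact hJ')
    refine ⟨J, hJ, fun hqc hK => hJfg (hfg' ?_ (isFG_comap _ hK))⟩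
    exact MorphismProperty.of_isPullback (IsPullback.of_hasPullback f (p s ≫ (U s).ι)) hqc
  choose J hJ hJfg using hlocal
  obtain ⟨I, hI⟩ := exists_represents_of_openCover (f := f) (K := K)
    (Scheme.openCoverOfIsOpenCover S U hU_top) fun s => ⟨J s, hJ s⟩
  refine ⟨I, hI, fun hqc hK => ?_⟩
  refine IdealExt.isFG_of_iSup_eq_top I (fun s => ⟨U s, hU s⟩) hU_top fun s => ?_
  have e : I.comap (U s).ι = J s :=
    Represents.unique (hI.baseChange (IsPullback.of_hasPullback _ _)) (hJ s)
  haveI : IsAffine (U s : Scheme.{u}) := hU s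
  have := congrArg (fun L : (U s : Scheme.{u}).IdealSheafData => L.ideal ⟨⊤, isAffineOpen_top _⟩) e
  simp only at this
  rw [Ideal.Comap.ideal_comap_ι_top ⟨U s, hU s⟩] at this
  have h3 := congrArg (Ideal.map (U s).topIso.hom.hom) this
  rw [Ideal.map_map, ← CommRingCat.hom_comp, Iso.inv_hom_id, CommRingCat.hom_id, Ideal.map_id] at h3
  rw [h3]
  exact Ideal.FG.map (hJfg s hqc hK ⟨⊤, isAffineOpen_top _⟩) _

end Groth.Agent.Lib.FreeRes
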