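import Mathlib.CategoryTheory.Monoidal.Cartesian.Grp

/-!
# Subgroup objects cut out by a monomorphism
-/

universe v u

open CategoryTheory MonoidalCategory CartesianMonoidalCategory MonObj GrpObj

namespace Groth.Agent.Lib.FreeRes

variable {C : Type u} [Category.{v} C] [CartesianMonoidalCategory C] {N G : C} [GrpObj G]

/-- A monomorphism whose points form subgroups underlies a group object. -/
theorem exists_grpObj_of_mono (n : N ⟶ G) [Mono n]
    (h1 : ∀ T : C, ∃ z : T ⟶ N, z ≫ n = 1)
    (hm : ∀ {T : C} (a b : T ⟶ N), ∃ z : T ⟶ N, z ≫ n = (a ≫ n) * (b ≫ n))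
    (hi : ∀ {T : C} (a : T ⟶ N), ∃ z : T ⟶ N, z ≫ n = (a ≫ n)⁻¹) :
    ∃ _ : GrpObj N, IsMonHom n := by
  obtain ⟨e, he⟩ := h1 (𝟙_ C)
  obtain ⟨m, hm'⟩ := hm (fst N N) (snd N N)
  obtain ⟨i, hi'⟩ := hi (𝟙 N)
  have hmul : ∀ {T : C} (a b : T ⟶ N), lift a b ≫ m ≫ n = (a ≫ n) * (b ≫ n) := fun a b => by
    rw [hm', MonObj.comp_mul, lift_fst_assoc, lift_snd_assoc]
  have hone : ∀ {T : C}, toUnit T ≫ e ≫ n = 1 := fun {T} => by rw [he, MonObj.comp_one]
  have hinv : ∀ {T : C} (a : T ⟶ N), a ≫ i ≫ n = (a ≫ n)⁻¹ := fun a => by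
    rw [hi', Category.id_comp, GrpObj.comp_inv]
  let M : GrpObj N :=
    { one := e
      mul := m
      one_mul := by
        rw [← cancel_mono n, show e ▷ N = lift (toUnit _ ≫ e) (snd (𝟙_ C) N) from ?_,
          Category.assoc, hmul, Category.assoc, hone, _root_.one_mul, leftUnitor_hom]
        apply CartesianMonoidalCategory.hom_ext
        · rw [whiskerRight_fst, lift_fst, toUnit_unique (toUnit _) (fst (𝟙_ C) N)]
        · simp
      mul_one := by
        rw [← cancel_mono n, show N ◁ e = lift (fst N (𝟙_ C)) (toUnit _ ≫ e) from ?_,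
          Category.assoc, hmul, Category.assoc, hone, _root_.mul_one, rightUnitor_hom]
        apply CartesianMonoidalCategory.hom_ext
        · simp
        · rw [whiskerLeft_snd, lift_snd, toUnit_unique (toUnit _) (snd N (𝟙_ C))]
      mul_assoc := by
        rw [← cancel_mono n,
          show m ▷ N = lift (fst (N ⊗ N) N ≫ m) (snd (N ⊗ N) N) by ext <;> simp,
          show N ◁ m = lift (fst N (N ⊗ N)) (snd N (N ⊗ N) ≫ m) by ext <;> simp]
        simp only [Category.assoc, hmul]
        simp only [hm', MonObj.comp_mul, associator_hom_fst_assoc,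
          associator_hom_snd_fst_assoc, associator_hom_snd_snd_assoc, _root_.mul_assoc]
      inv := i
      left_inv := by
        rw [← cancel_mono n, Category.assoc, Category.assoc, hmul, hone, hi', Category.id_comp, inv_mul_cancel]
      right_inv := by
        rw [← cancel_mono n, Category.assoc, Category.assoc, hmul, hone, hi', Category.id_comp, mul_inv_cancel] }
  refine ⟨M, { one_hom := ?_, mul_hom := ?_ }⟩
  · change e ≫ n = η[G]
    rw [he, Hom.one_def, toUnit_unit, Category.id_comp]
  · change m ≫ n = (n ⊗ₘ n) ≫ μ[G]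
    rw [hm', Hom.mul_def, ← lift_fst_comp_snd_comp]

end Groth.Agent.Lib.FreeRes
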