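import Groth.Agent.Lib.FreeRes.Transporter
import Groth.Agent.Lib.FreeRes.SubGrp
import Groth.Agent.Lib.GrpSch.Basic

/-!
# Transporters and strict transporters in a group scheme
-/

universe u

open CategoryTheory CategoryTheory.Limits AlgebraicGeometry MonoidalCategory CartesianMonoidalCategory
open CategoryTheory.MonObj CategoryTheory.GrpObj

namespace Groth.Agent.Lib.FreeRes

set_option linter.style.haveILetI false

variable {S : Scheme.{u}} {G Y Y' : Over S} [GrpObj G]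

/-- The conjugates of the points of `Y'` lie in `Y`. -/
def Transports (y : Y ⟶ G) (y' : Y' ⟶ G) {T : Over S} (g : T ⟶ G) : Prop :=
  ∀ (S'' : Over S) (s : S'' ⟶ T) (x : S'' ⟶ Y'),
    ∃ x' : S'' ⟶ Y, (s ≫ g) * (x ≫ y') * (s ≫ g)⁻¹ = x' ≫ y

/-- The inverse conjugates of the points of `Y` lie in `Y'`. -/
def TransportsBack (y : Y ⟶ G) (y' : Y' ⟶ G) {T : Over S} (g : T ⟶ G) : Prop :=
  ∀ (S'' : Over S) (s : S'' ⟶ T) (x' : S'' ⟶ Y),
    ∃ x : S'' ⟶ Y', (s ≫ g)⁻¹ * (x' ≫ y) * (s ≫ g) = x ≫ y'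

/-- The transporter is a closed subscheme. -/
theorem exists_transporter (y : Y ⟶ G) [IsClosedImmersion y.left] (y' : Y' ⟶ G)
    (hY' : SGA3x.IsEssentiallyFree Y'.hom) :
    ∃ (C : Over S) (c : C ⟶ G), IsClosedImmersion c.left ∧
      (∀ {T : Over S} (g : T ⟶ G), (∃ z, z ≫ c = g) ↔ Transports y y' g) ∧
      (QuasiCompact Y'.hom → LocallyOfFinitePresentation y.left →
        LocallyOfFinitePresentation c.left) := by
  obtain ⟨C, c, hc, hC, hfp⟩ := exists_closed_factor hY'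
    (fst G Y' * (snd G Y' ≫ y') * (fst G Y')⁻¹) y
  refine ⟨C, c, hc, fun g => ?_, hfp⟩
  rw [hC g, forall_pair_factor_iff]
  simp only [Transports, MonObj.comp_mul, GrpObj.comp_inv, lift_fst, lift_snd_assoc]

theorem exists_transporterBack (y : Y ⟶ G) (y' : Y' ⟶ G) [IsClosedImmersion y'.left]
    (hY : SGA3x.IsEssentiallyFree Y.hom) :
    ∃ (C : Over S) (c : C ⟶ G), IsClosedImmersion c.left ∧
      ∀ {T : Over S} (g : T ⟶ G), (∃ z, z ≫ c = g) ↔ TransportsBack y y' g := by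
  obtain ⟨C, c, hc, hC, -⟩ := exists_closed_factor hY
    ((fst G Y)⁻¹ * (snd G Y ≫ y) * fst G Y) y'
  refine ⟨C, c, hc, fun g => ?_⟩
  rw [hC g, forall_pair_factor_iff]
  simp only [TransportsBack, MonObj.comp_mul, GrpObj.comp_inv, lift_fst, lift_snd_assoc]

/-- Intersection of two closed conditions. -/
theorem exists_inter {P C₁ C₂ : Over S} (c₁ : C₁ ⟶ P) [IsClosedImmersion c₁.left] (c₂ : C₂ ⟶ P)
    [IsClosedImmersion c₂.left] :
    ∃ (C : Over S) (c : C ⟶ P), IsClosedImmersion c.left ∧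
      ∀ {T : Over S} (g : T ⟶ P), (∃ z, z ≫ c = g) ↔ (∃ z, z ≫ c₁ = g) ∧ (∃ z, z ≫ c₂ = g) := by
  let C : Over S := Over.mk ((pullback.fst c₁.left c₂.left ≫ c₁.left) ≫ P.hom)
  let c : C ⟶ P := Over.homMk (pullback.fst c₁.left c₂.left ≫ c₁.left)
  haveI : IsClosedImmersion c.left :=
    inferInstanceAs (IsClosedImmersion (pullback.fst c₁.left c₂.left ≫ c₁.left))
  refine ⟨C, c, this, fun {T} g => ⟨?_, ?_⟩⟩
  · rintro ⟨z, rfl⟩
    refine ⟨⟨z ≫ Over.homMk (pullback.fst c₁.left c₂.left) ?_, ?_⟩,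
      ⟨z ≫ Over.homMk (pullback.snd c₁.left c₂.left) ?_, ?_⟩⟩
    · show _ ≫ C₁.hom = (_ ≫ c₁.left) ≫ P.hom
      rw [Category.assoc, Over.w c₁]
    · rw [Category.assoc]; congr 1
    · show _ ≫ C₂.hom = (_ ≫ c₁.left) ≫ P.hom
      rw [pullback.condition, Category.assoc, Over.w c₂]
    · rw [Category.assoc]; congr 1
      exact Over.OverMorphism.ext pullback.condition.symm
  · rintro ⟨⟨z₁, h₁⟩, ⟨z₂, h₂⟩⟩
    have e : z₁.left ≫ c₁.left = z₂.left ≫ c₂.left := by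
      rw [← Over.comp_left, ← Over.comp_left, h₁, h₂]
    have e1 : pullback.lift z₁.left z₂.left e ≫ c.left = g.left := by
      show pullback.lift z₁.left z₂.left e ≫ pullback.fst c₁.left c₂.left ≫ c₁.left = _
      rw [pullback.lift_fst_assoc, ← Over.comp_left, h₁]
    exact ⟨Over.homMk (pullback.lift z₁.left z₂.left e)
      (by rw [← Over.w c, reassoc_of% e1, Over.w g]), Over.OverMorphism.ext e1⟩

/-- The strict transporter is a closed subscheme. -/
theorem exists_strictTransporter (y : Y ⟶ G) [IsClosedImmersion y.left] (y' : Y' ⟶ G)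
    [IsClosedImmersion y'.left] (hY : SGA3x.IsEssentiallyFree Y.hom)
    (hY' : SGA3x.IsEssentiallyFree Y'.hom) :
    ∃ (C : Over S) (c : C ⟶ G), IsClosedImmersion c.left ∧
      ∀ {T : Over S} (g : T ⟶ G), (∃ z, z ≫ c = g) ↔ Transports y y' g ∧ TransportsBack y y' g := by
  obtain ⟨C₁, c₁, hc₁, h₁, -⟩ := exists_transporter y y' hY'
  obtain ⟨C₂, c₂, hc₂, h₂⟩ := exists_transporterBack y y' hY
  obtain ⟨C, c, hc, h⟩ := exists_inter c₁ c₂
  exact ⟨C, c, hc, fun g => by rw [h g, h₁ g, h₂ g]⟩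

/-- A closed normalizer is a subgroup scheme. -/
theorem exists_normalizer {H : Over S} [GrpObj H] (i : H ⟶ G) [IsClosedImmersion i.left]
    (hH : SGA3x.IsEssentiallyFree H.hom) :
    ∃ (N : Over S) (_ : GrpObj N) (n : N ⟶ G), IsClosedImmersion n.left ∧ IsMonHom n ∧ Mono n ∧
      ∀ {T : Over S} (g : T ⟶ G), (∃ z, z ≫ n = g) ↔ Transports i i g ∧ TransportsBack i i g := by
  obtain ⟨N, n, hn, h⟩ := exists_strictTransporter i i hH hH
  haveI : Mono n := (Over.forget S).mono_of_mono_map (show Mono n.left from inferInstance)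
  have key : ∀ {T : Over S} (g g' : T ⟶ G), Transports i i g ∧ TransportsBack i i g →
      Transports i i g' ∧ TransportsBack i i g' →
      Transports i i (g * g') ∧ TransportsBack i i (g * g') := fun g g' hg hg' => by
    refine ⟨fun S'' s x => ?_, fun S'' s x => ?_⟩
    · obtain ⟨x₁, e₁⟩ := hg'.1 S'' s x
      obtain ⟨x₂, e₂⟩ := hg.1 S'' s x₁
      refine ⟨x₂, ?_⟩
      rw [← e₂, ← e₁, MonObj.comp_mul, _root_.mul_inv_rev]
      simp only [_root_.mul_assoc]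
    · obtain ⟨x₁, e₁⟩ := hg.2 S'' s x
      obtain ⟨x₂, e₂⟩ := hg'.2 S'' s x₁
      refine ⟨x₂, ?_⟩
      rw [← e₂, ← e₁, MonObj.comp_mul, _root_.mul_inv_rev]
      simp only [_root_.mul_assoc]
  obtain ⟨M, hM⟩ := exists_grpObj_of_mono n
    (fun T => (h 1).2 ⟨fun _ s x => ⟨x, by simp [MonObj.comp_one]⟩,
      fun _ s x => ⟨x, by simp [MonObj.comp_one]⟩⟩)
    (fun a b => (h _).2 (key _ _ ((h _).1 ⟨a, rfl⟩) ((h _).1 ⟨b, rfl⟩)))
    (fun a => (h _).2 (by
      obtain ⟨p, q⟩ := (h _).1 ⟨a, rfl⟩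
      refine ⟨fun S'' s x => ?_, fun S'' s x => ?_⟩
      · obtain ⟨x', e⟩ := q S'' s x
        exact ⟨x', by rw [GrpObj.comp_inv, _root_.inv_inv, ← e]⟩
      · obtain ⟨x', e⟩ := p S'' s x
        exact ⟨x', by rw [GrpObj.comp_inv, _root_.inv_inv, ← e]⟩))
  exact ⟨N, M, n, hn, hM, inferInstance, h⟩

end Groth.Agent.Lib.FreeRes
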