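import Groth.Agent.Lib.FreeRes.EssFree
import Mathlib.CategoryTheory.Limits.Shapes.Pullback.IsPullback.Basic

/-!
# Affine morphisms with locally free algebra are essentially free
-/

universe u

open CategoryTheory CategoryTheory.Limits AlgebraicGeometry TopologicalSpace
open scoped TensorProduct

namespace Groth.Agent.Lib.FreeRes

set_option linter.style.haveILetI false

theorem projective_of_isPushout {A A' C C' : CommRingCat.{u}} {a : A ⟶ A'} {c : A ⟶ C}
    {c' : A' ⟶ C'} {b : C ⟶ C'} (h : IsPushout a c c' b)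
    (hC : letI := c.hom.toAlgebra; Module.Projective A C) :
    letI := c'.hom.toAlgebra
    Module.Projective A' C' := by
  letI := c.hom.toAlgebra
  letI := a.hom.toAlgebra
  letI := c'.hom.toAlgebra
  letI := b.hom.toAlgebra
  letI := (c'.hom.comp a.hom).toAlgebra
  haveI := hC
  haveI : IsScalarTower A A' C' := .of_algebraMap_eq' rfl
  haveI : IsScalarTower A C C' := .of_algebraMap_eq' (congrArg CommRingCat.Hom.hom h.w)
  exact Module.Projective.of_equiv (CommRingCat.isPushout_iff_isPushout.mp h :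
    Algebra.IsPushout A A' C C').out.equiv

variable {Z S : Scheme.{u}}

theorem projCovered_of_isAffine [IsAffine S] [IsAffine Z] (π : Z ⟶ S)
    (hπ : letI := π.appTop.hom.toAlgebra; Module.Projective Γ(S, ⊤) Γ(Z, ⊤)) : ProjCovered π := by
  intro x
  haveI : IsIso (⊤ : Z.Opens).ι := by rw [← Scheme.topIso_hom]; infer_instance
  haveI : IsIso (⊤ : Z.Opens).ι.appTop := (inferInstance : IsIso ((⊤ : Z.Opens).ι.app ⊤))
  refine ⟨⊤, trivial, isAffineOpen_top Z, ?_⟩
  refine projective_of_isPushout (a := 𝟙 Γ(S, ⊤)) (c := π.appTop) (b := (⊤ : Z.Opens).ι.appTop) ?_ hπ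
  exact IsPushout.of_horiz_isIso ⟨by rw [Category.id_comp, Scheme.Hom.comp_appTop]⟩

/-- An affine morphism with locally projective algebra is essentially free. -/
theorem isEssentiallyFree_of_isAffineHom (f : Z ⟶ S) [IsAffineHom f]
    (h : ∀ s : S, ∃ U : S.affineOpens, s ∈ (U : S.Opens) ∧
      @Module.Projective Γ(S, U) _ Γ(Z, f ⁻¹ᵁ U) _ (f.app U).hom.toAlgebra.toModule) :
    SGA3x.IsEssentiallyFree f := by
  refine isEssentiallyFree_of_local fun s => ?_
  obtain ⟨⟨U, hU⟩, hsU, hP⟩ := h s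
  haveI : IsAffine (U : Scheme.{u}) := hU
  haveI : IsAffine ((f ⁻¹ᵁ U : Z.Opens) : Scheme.{u}) := hU.preimage f
  refine ⟨U, hsU, hU, _, (f ⁻¹ᵁ U).ι, f ∣_ U, (isPullback_morphismRestrict f U).flip,
    projCovered_of_isAffine _ ?_⟩
  refine projective_of_isPushout (a := U.topIso.inv) (c := f.app U)
    (b := (f ⁻¹ᵁ U).topIso.inv) ?_ hP
  refine IsPushout.of_horiz_isIso ⟨?_⟩
  simp [Scheme.Hom.appLE, Scheme.Opens.topIso_inv]
  erw [Scheme.Hom.naturality_assoc, ← Functor.map_comp]
  rfl

end Groth.Agent.Lib.FreeRes
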