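import Groth.Agent.Lib.HilbD.FppfDesc
import Groth.Agent.Lib.HilbD.Glue
import Groth.Agent.Lib.Lim.Approx.Integral

/-!
# The locus of the base over which an ideal sheaf vanishes

`Represents f K I`: the closed subscheme `V(I)` of the base is the locus over which `K` becomes zero.
Uniqueness, base change, fpqc descent and gluing.
-/

universe u

open CategoryTheory CategoryTheory.Limits AlgebraicGeometry TopologicalSpace
open Groth.Agent.Lib Groth.Agent.Lib.HilbD Groth.Agent.Lib.Lim

namespace Groth.Agent.Lib.FreeRes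

set_option linter.style.haveILetI false

variable {Z S : Scheme.{u}} {f : Z ⟶ S} {K : Z.IdealSheafData}

/-- `V(I)` is the locus of `S` over which `K` vanishes. -/
def Represents (f : Z ⟶ S) (K : Z.IdealSheafData) (I : S.IdealSheafData) : Prop :=
  ∀ {Z' S' : Scheme.{u}} (g' : Z' ⟶ Z) (π' : Z' ⟶ S') (g : S' ⟶ S), IsPullback g' π' f g →
    (I.comap g = ⊥ ↔ K.comap g' = ⊥)

theorem eq_of_forall_iff {T : Scheme.{u}} {J₁ J₂ : T.IdealSheafData}
    (h : ∀ {U : Scheme.{u}} (k : U ⟶ T), J₁.comap k = ⊥ ↔ J₂.comap k = ⊥) : J₁ = J₂ := by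
  have self : ∀ J : T.IdealSheafData, J.comap J.subschemeι = ⊥ := fun J =>
    (Basic.exists_lift_iff _ J).1 ⟨𝟙 _, Category.id_comp _⟩
  have aux : ∀ J J' : T.IdealSheafData, J.comap J'.subschemeι = ⊥ → J ≤ J' := fun J J' hJ => by
    rw [← le_bot_iff, ← Scheme.IdealSheafData.le_map_iff_comap_le,
      Scheme.IdealSheafData.map_bot, Scheme.IdealSheafData.ker_subschemeι] at hJ
    exact hJ
  exact le_antisymm (aux _ _ ((h _).2 (self J₂))) (aux _ _ ((h _).1 (self J₁)))

theorem comap_bot {W V : Scheme.{u}} (h : W ⟶ V) : (⊥ : V.IdealSheafData).comap h = ⊥ := by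
  rw [← le_bot_iff, ← Scheme.IdealSheafData.le_map_iff_comap_le]
  exact bot_le

theorem comap_iso_eq_bot {W V : Scheme.{u}} (e : W ≅ V) {J : V.IdealSheafData} :
    J.comap e.hom = ⊥ ↔ J = ⊥ := by
  refine ⟨fun h => ?_, fun h => by rw [h, comap_bot]⟩
  have := congrArg (fun L : W.IdealSheafData => L.comap e.inv) h
  simpa [← Scheme.IdealSheafData.comap_comp, comap_bot] using this

theorem comap_bot_congr {Z₁ Z₂ T : Scheme.{u}} {h : T ⟶ S} {g₁ : Z₁ ⟶ Z} {π₁ : Z₁ ⟶ T}
    (s₁ : IsPullback g₁ π₁ f h) {g₂ : Z₂ ⟶ Z} {π₂ : Z₂ ⟶ T} (s₂ : IsPullback g₂ π₂ f h) :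
    K.comap g₁ = ⊥ ↔ K.comap g₂ = ⊥ := by
  rw [← s₁.isoIsPullback_hom_fst Z T s₂, Scheme.IdealSheafData.comap_comp]
  exact comap_iso_eq_bot _

theorem Represents.iff_comp {Z' S' : Scheme.{u}} {g' : Z' ⟶ Z} {π' : Z' ⟶ S'} {g : S' ⟶ S}
    (sq : IsPullback g' π' f g) {I' : S'.IdealSheafData} (hI : Represents π' (K.comap g') I')
    {U : Scheme.{u}} (h : U ⟶ S') :
    I'.comap h = ⊥ ↔ K.comap (pullback.fst f (h ≫ g)) = ⊥ := by
  let l : pullback f (h ≫ g) ⟶ Z' := sq.lift (pullback.fst f (h ≫ g)) (pullback.snd f (h ≫ g) ≫ h)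
    (by rw [pullback.condition, Category.assoc])
  have sq' : IsPullback l (pullback.snd f (h ≫ g)) π' h := by
    refine IsPullback.of_right ?_ (sq.lift_snd _ _ _) sq
    rw [sq.lift_fst]
    exact IsPullback.of_hasPullback f (h ≫ g)
  rw [hI l _ h sq', ← Scheme.IdealSheafData.comap_comp, sq.lift_fst]

theorem Represents.baseChange {I : S.IdealSheafData} (hI : Represents f K I) {Z' S' : Scheme.{u}}
    {g' : Z' ⟶ Z} {π' : Z' ⟶ S'} {g : S' ⟶ S} (sq : IsPullback g' π' f g) :
    Represents π' (K.comap g') (I.comap g) := by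
  intro Z'' S'' a b c sq'
  rw [← Scheme.IdealSheafData.comap_comp, ← Scheme.IdealSheafData.comap_comp]
  exact hI _ _ _ (sq'.paste_horiz sq)

/-- fpqc descent of the vanishing locus. -/
theorem exists_represents_of_cover {Z' S' : Scheme.{u}} {g' : Z' ⟶ Z} {π' : Z' ⟶ S'} {p : S' ⟶ S}
    [Flat p] [Surjective p] [QuasiCompact p] (sq : IsPullback g' π' f p) {I' : S'.IdealSheafData}
    (hI : Represents π' (K.comap g') I') :
    ∃ I : S.IdealSheafData, Represents f K I ∧ I.comap p = I' ∧
      (IdealExt.IsFG I' → IdealExt.IsFG I) := by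
  have hd : I'.comap (pullback.fst p p) = I'.comap (pullback.snd p p) := by
    refine eq_of_forall_iff fun {U} k => ?_
    rw [← Scheme.IdealSheafData.comap_comp, ← Scheme.IdealSheafData.comap_comp,
      hI.iff_comp sq, hI.iff_comp sq]
    have e : (k ≫ pullback.fst p p) ≫ p = (k ≫ pullback.snd p p) ≫ p := by
      simp [pullback.condition]
    rw [e]
  have hI' : (I'.map p).comap p = I' :=
    FppfDesc.comap_map_of_descentData p (IsPullback.of_hasPullback p p) I' hd
  refine ⟨I'.map p, ?_, hI', fun hfg => ?_⟩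
  · intro Z'' S'' a b c sq''
    let q := pullback.fst c p
    let r := pullback.snd c p
    have hq : (@Surjective ⊓ @Flat ⊓ @QuasiCompact : MorphismProperty Scheme.{u}) q :=
      MorphismProperty.of_isPullback (IsPullback.of_hasPullback c p).flip (FppfDesc.prop_q p)
    haveI : Surjective q := hq.1.1
    haveI : Flat q := hq.1.2
    haveI : QuasiCompact q := hq.2
    have hz : (@Surjective ⊓ @Flat ⊓ @QuasiCompact : MorphismProperty Scheme.{u}) (pullback.fst b q) :=
      MorphismProperty.of_isPullback (IsPullback.of_hasPullback b q).flip hq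
    haveI : Surjective (pullback.fst b q) := hz.1.1
    haveI : Flat (pullback.fst b q) := hz.1.2
    haveI : QuasiCompact (pullback.fst b q) := hz.2
    have e1 : (I'.map p).comap c = ⊥ ↔ I'.comap r = ⊥ := by
      rw [← hI', ← Scheme.IdealSheafData.comap_comp, ← pullback.condition,
        Scheme.IdealSheafData.comap_comp, hI']
      exact ⟨fun h => by rw [h, comap_bot],
        fun h => FppfDesc.comap_injective q (h.trans (comap_bot q).symm)⟩
    have e2 : K.comap a = ⊥ ↔ K.comap (pullback.fst f (r ≫ p)) = ⊥ := by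
      have s1 : IsPullback (pullback.fst b q ≫ a) (pullback.snd b q) f (r ≫ p) := by
        rw [← pullback.condition]
        exact (IsPullback.of_hasPullback b q).paste_horiz sq''
      rw [← comap_bot_congr s1 (IsPullback.of_hasPullback f (r ≫ p)),
        Scheme.IdealSheafData.comap_comp]
      exact ⟨fun h => by rw [h, comap_bot],
        fun h => FppfDesc.comap_injective (pullback.fst b q) (h.trans (comap_bot _).symm)⟩
    rw [e1, e2, hI.iff_comp sq]
  · haveI : LocallyOfFinitePresentation ((I'.map p).comap p).subschemeι := by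
      rw [hI']; exact IdealFP.lfp_subschemeι I' hfg
    have sqI := Basic.isPullback_comapMap p (I'.map p)
    haveI : LocallyOfFinitePresentation (I'.map p).subschemeι :=
      MorphismProperty.of_isPullback_of_descendsAlong sqI.flip (FppfDesc.prop_q p) ‹_›
    have := Approx.Integral.isFG_ker_of_lfp (I'.map p).subschemeι
    rwa [Scheme.IdealSheafData.ker_subschemeι] at this

/-- Gluing vanishing loci along an open cover of the base. -/
theorem exists_represents_of_openCover (𝓤 : S.OpenCover)
    (h : ∀ i, ∃ J, Represents (pullback.snd f (𝓤.f i)) (K.comap (pullback.fst f (𝓤.f i))) J) :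
    ∃ I : S.IdealSheafData, Represents f K I := by
  choose J hJ using h
  have hd : ∀ i j, (J i).comap (pullback.fst (𝓤.f i) (𝓤.f j)) =
      (J j).comap (pullback.snd (𝓤.f i) (𝓤.f j)) := fun i j => by
    refine eq_of_forall_iff fun {U} k => ?_
    rw [← Scheme.IdealSheafData.comap_comp, ← Scheme.IdealSheafData.comap_comp,
      Represents.iff_comp (IsPullback.of_hasPullback _ _) (hJ i), Represents.iff_comp (IsPullback.of_hasPullback _ _) (hJ j),
      show (k ≫ pullback.fst (𝓤.f i) (𝓤.f j)) ≫ 𝓤.f i = (k ≫ pullback.snd (𝓤.f i) (𝓤.f j)) ≫ 𝓤.f j by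
        simp [pullback.condition]]
  refine ⟨Glue.glue 𝓤 J hd, ?_⟩
  intro Z'' S'' a b c sq''
  have hpiece : ∀ i, ((Glue.glue 𝓤 J hd).comap c).comap (pullback.fst c (𝓤.f i)) = ⊥ ↔
      (K.comap a).comap (pullback.fst b (pullback.fst c (𝓤.f i))) = ⊥ := fun i => by
    rw [← Scheme.IdealSheafData.comap_comp, pullback.condition, Scheme.IdealSheafData.comap_comp,
      Glue.comap_glue, Represents.iff_comp (IsPullback.of_hasPullback _ _) (hJ i),
      ← Scheme.IdealSheafData.comap_comp]
    refine comap_bot_congr (IsPullback.of_hasPullback _ _) (π₂ := pullback.snd b (pullback.fst c (𝓤.f i))) ?_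
    rw [← pullback.condition]
    exact (IsPullback.of_hasPullback b (pullback.fst c (𝓤.f i))).paste_horiz sq''
  constructor
  · intro h
    refine Glue.ext ((𝓤.pullback₁ c).pullback₁ b) fun i => ?_
    refine Eq.trans ?_ (comap_bot _).symm
    exact (hpiece i).1 (by rw [h, comap_bot])
  · intro h
    refine Glue.ext (𝓤.pullback₁ c) fun i => ?_
    refine Eq.trans ?_ (comap_bot _).symm
    exact (hpiece i).2 (by rw [h, comap_bot])

end Groth.Agent.Lib.FreeRes
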