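import Groth.Agent.Lib.FreeRes.OfFree
import Groth.Agent.H87.MT
import Mathlib.AlgebraicGeometry.Limits

/-!
# Groups of multiplicative type are essentially free
-/

universe u

open CategoryTheory CategoryTheory.Limits AlgebraicGeometry TopologicalSpace
open Groth.Agent.Lib Groth.Agent.Lib.HilbD

namespace Groth.Agent.Lib.FreeRes

set_option linter.style.haveILetI false

variable {S : Scheme.{u}}

/-- A finite locally free morphism is essentially free. -/
theorem isEssentiallyFree_of_isFinLocFree {Z : Scheme.{u}} (f : Z ⟶ S) (hf : Mor2.IsFinLocFree f) :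
    SGA3x.IsEssentiallyFree f :=
  haveI := hf.1
  isEssentiallyFree_of_isAffineHom f fun s => by
    obtain ⟨U, hU, hsU, -⟩ := exists_isAffineOpen_mem_and_subset (show s ∈ (⊤ : S.Opens) from trivial)
    exact ⟨⟨U, hU⟩, hsU, Content.projective_app f hf ⟨U, hU⟩⟩

/-- `Spec R[M]` is projectively covered over `Spec R`. -/
theorem projCovered_diag (R : Type u) [CommRing R] (M : Type) [AddCommGroup M] :
    ProjCovered (Red.diag R M).hom := by
  haveI : IsAffine (Red.diag R M).left :=
    inferInstanceAs (IsAffine (Spec (CommRingCat.of (MonoidAlgebra R (Multiplicative M)))))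
  refine projCovered_of_isAffine _ ?_
  let φ : CommRingCat.of R ⟶ CommRingCat.of (MonoidAlgebra R (Multiplicative M)) :=
    CommRingCat.ofHom (algebraMap R (MonoidAlgebra R (Multiplicative M)))
  refine projective_of_isPushout (a := (Scheme.ΓSpecIso _).inv) (c := φ)
    (b := (Scheme.ΓSpecIso _).inv) (IsPushout.of_horiz_isIso ⟨?_⟩) ?_
  · exact (Scheme.ΓSpecIso_inv_naturality φ).symm
  · have h : φ.hom.toAlgebra = (inferInstance : Algebra R (MonoidAlgebra R (Multiplicative M))) :=
      Algebra.algebra_ext _ _ fun _ => rfl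
    show @Module.Projective R _ (MonoidAlgebra R (Multiplicative M)) _ φ.hom.toAlgebra.toModule
    rw [h]
    infer_instance

/-- The inclusion of a piece of a finite disjoint union is finite locally free. -/
theorem isFinLocFree_sigmaι {ι : Type u} (A : ι → Scheme.{u}) (i : ι) :
    Mor2.IsFinLocFree (Sigma.ι A i) := by
  have hc : IsClosed (Set.range (Sigma.ι A i)) := by
    rw [← isOpen_compl_iff]
    have : (Set.range (Sigma.ι A i))ᶜ = ⋃ j : {j // j ≠ i}, Set.range (Sigma.ι A j.1) := by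
      ext x
      obtain ⟨j, y, rfl⟩ := (sigmaOpenCover A).exists_eq x
      simp only [Set.mem_compl_iff, Set.mem_range, Set.mem_iUnion, Subtype.exists]
      change (¬∃ z, Sigma.ι A i z = Sigma.ι A j y) ↔ _
      constructor
      · intro h
        exact ⟨j, fun hji => h (by subst hji; exact ⟨y, rfl⟩), y, rfl⟩
      · rintro ⟨k, hki, z, hz⟩ ⟨w, hw⟩
        exact hki (congrArg Sigma.fst ((sigmaι_eq_iff _ _ _ _ _).mp (hz.trans hw.symm)))
    rw [this]
    exact isOpen_iUnion fun j => (Sigma.ι A j.1).isOpenEmbedding.isOpen_range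
  haveI : IsClosedImmersion (Sigma.ι A i) := IsClosedImmersion.of_isPreimmersion _ hc
  exact ⟨inferInstance, inferInstance, inferInstance⟩

theorem projective_trans {A B C : CommRingCat.{u}} (a : A ⟶ B) (b : B ⟶ C) (c : A ⟶ C) (h : a ≫ b = c)
    (hB : letI := a.hom.toAlgebra; Module.Projective A B)
    (hC : letI := b.hom.toAlgebra; Module.Projective B C) :
    letI := c.hom.toAlgebra
    Module.Projective A C := by
  letI := a.hom.toAlgebra
  letI := b.hom.toAlgebra
  letI := c.hom.toAlgebra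
  haveI := hB
  haveI := hC
  haveI : IsScalarTower A B C := .of_algebraMap_eq' (congrArg CommRingCat.Hom.hom h.symm)
  obtain ⟨M, _, _, _, i, s, hs⟩ := (Module.Projective.iff_split (R := B) (P := C)).mp hC
  haveI : Module.Free B M := ‹_›
  letI : Module A M := Module.compHom M a.hom
  haveI : IsScalarTower A B M := IsScalarTower.of_algebraMap_smul fun _ _ => rfl
  obtain ⟨σ, hσ⟩ := (Module.projective_def').mp hB
  haveI : Module.Projective A (Module.Free.ChooseBasisIndex B M →₀ B) :=
    Module.Projective.of_split (R := A) (Finsupp.mapRange.linearMap σ)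
      (Finsupp.mapRange.linearMap (Finsupp.linearCombination A id))
      (by rw [← Finsupp.mapRange.linearMap_comp, hσ, Finsupp.mapRange.linearMap_id])
  haveI : Module.Projective A M :=
    Module.Projective.of_equiv ((Module.Free.chooseBasis B M).repr.symm.restrictScalars A)
  exact Module.Projective.of_split (i.restrictScalars A) (s.restrictScalars A)
    (LinearMap.ext fun x => LinearMap.congr_fun hs x)

/-- **A group of multiplicative type is essentially free.** -/
theorem isEssentiallyFree_of_isMultTypeFT {H : Over S} [GrpObj H] (h : SGA3x.IsMultTypeFT H) :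
    SGA3x.IsEssentiallyFree H.hom := by
  classical
  obtain ⟨S', f, hf, hs, hc, hloc⟩ := h
  intro s
  obtain ⟨V, hV, hsV, -⟩ := exists_isAffineOpen_mem_and_subset (show s ∈ (⊤ : S.Opens) from trivial)
  haveI : IsAffine (V : Scheme.{u}) := hV
  obtain ⟨W, hW, hWV⟩ := hc V hV
  choose U hU M hM hFG hiso using hloc
  have hA : ∀ w : (W : Set S'), ∃ A : S'.Opens, IsAffineOpen A ∧ w.1 ∈ A ∧ (A : Set S') ⊆ ↑(W ⊓ U w.1) :=
    fun w => exists_isAffineOpen_mem_and_subset (show w.1 ∈ W ⊓ U w.1 from ⟨w.2, hU w.1⟩)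
  choose A hAaff hmem hAle using hA
  obtain ⟨t, ht⟩ := hW.elim_finite_subcover (fun w => (A w : Set S')) (fun w => (A w).2)
    (fun w hw => Set.mem_iUnion.mpr ⟨⟨w, hw⟩, hmem ⟨w, hw⟩⟩)
  let F : t → Scheme.{u} := fun w => (A w.1 : Scheme.{u})
  haveI : ∀ w, IsAffine (F w) := fun w => hAaff w.1
  have hle : ∀ w : t, A w.1 ≤ f ⁻¹ᵁ V := fun w x hx =>
    show f.base x ∈ (V : Set S) from hWV ▸ ⟨x, (hAle w.1 hx).1, rfl⟩
  let g : (∐ F) ⟶ (V : Scheme.{u}) := Sigma.desc fun w => f.resLE V (A w.1) (hle w)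
  haveI : Flat g := IsZariskiLocalAtSource.sigmaDesc fun w => inferInstance
  have hsurj : Surjective g := ⟨fun v => by
    obtain ⟨x, hx, hxv⟩ := (Set.ext_iff.1 hWV v.1).2 v.2
    obtain ⟨w, hw, hxw⟩ := Set.mem_iUnion₂.mp (ht hx)
    refine ⟨Sigma.ι F ⟨w, hw⟩ ⟨x, hxw⟩, Subtype.ext ?_⟩
    rw [← Scheme.Hom.comp_apply, Sigma.ι_desc, Scheme.Hom.coe_resLE_apply]
    exact hxv⟩
  refine ⟨V, hsV, hV, ∐ F, inferInstance, g, inferInstance, hsurj, fun z => ?_⟩
  let π := pullback.snd H.hom (g ≫ V.ι)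
  obtain ⟨w, x, hx⟩ := (sigmaOpenCover F).exists_eq (π z)
  change Sigma.ι F w x = π z at hx
  -- the piece over the `w`-th component
  let p := pullback.snd π (Sigma.ι F w)
  let k : F w ⟶ U w.1.1 := S'.homOfLE fun y hy => (hAle w.1 hy).2
  have hkw : Sigma.ι F w ≫ g ≫ V.ι = k ≫ (U w.1.1).ι ≫ f := by
    rw [Sigma.ι_desc_assoc, Scheme.Hom.resLE_comp_ι, Scheme.homOfLE_ι_assoc]
  have hp : ProjCovered p := by
    obtain ⟨e⟩ := hiso w.1.1
    let eo : Red.bc ((U w.1.1).ι ≫ f) H ≅ Red.DS (U w.1.1 : Scheme.{u}) (M w.1.1) :=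
      @Groth.Agent.Lib.Tori.BaseChange.overIso _ _ _ _ _ e
    let l : pullback π (Sigma.ι F w) ⟶ (Red.bc ((U w.1.1).ι ≫ f) H).left :=
      pullback.lift (pullback.fst π _ ≫ pullback.fst H.hom _) (p ≫ k) (by
        rw [Category.assoc, Category.assoc, pullback.condition, ← hkw, ← pullback.condition_assoc])
    have s1 : IsPullback l p (Red.bc ((U w.1.1).ι ≫ f) H).hom k := by
      refine IsPullback.of_right ?_ (pullback.lift_snd _ _ _) (IsPullback.of_hasPullback H.hom ((U w.1.1).ι ≫ f))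
      rw [pullback.lift_fst, ← hkw]
      exact (IsPullback.of_hasPullback π (Sigma.ι F w)).paste_horiz (IsPullback.of_hasPullback H.hom (g ≫ V.ι))
    have s2 : IsPullback eo.hom.left (Red.bc ((U w.1.1).ι ≫ f) H).hom
        (Red.DS (U w.1.1 : Scheme.{u}) (M w.1.1)).hom (𝟙 _) := by
      haveI : IsIso eo.hom.left := inferInstanceAs (IsIso ((Over.forget _).map eo.hom))
      exact IsPullback.of_horiz_isIso ⟨by rw [Category.comp_id, Over.w eo.hom]⟩
    exact projCovered_baseChange (projCovered_diag _ _)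
      ((s1.paste_horiz s2).paste_horiz (IsPullback.of_hasPullback
        (Red.diag (ULift.{u} ℤ) (M w.1.1)).hom (IsTerminal.from specULiftZIsTerminal (U w.1.1 : Scheme.{u}))))
  haveI : IsOpenImmersion (pullback.fst π (Sigma.ι F w)) := inferInstance
  obtain ⟨y, hy, -⟩ := Scheme.Pullback.exists_preimage_pullback (f := π) (g := Sigma.ι F w) z x hx.symm
  obtain ⟨O, hyO, hO, hP⟩ := hp y
  let j := pullback.fst π (Sigma.ι F w)
  refine ⟨j ''ᵁ O, ⟨y, hyO, hy⟩, hO.image_of_isOpenImmersion j, ?_⟩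
  haveI : IsAffine (O : Scheme.{u}) := hO
  haveI : IsAffine ((j ''ᵁ O : (pullback H.hom (g ≫ V.ι)).Opens) : Scheme.{u}) := hO.image_of_isOpenImmersion j
  have hι := Content.projective_app (Sigma.ι F w) (isFinLocFree_sigmaι F w) ⟨⊤, isAffineOpen_top _⟩
  have e1 : ((j ''ᵁ O).ι ≫ π) = (j.isoImage O).inv ≫ (O.ι ≫ p) ≫ Sigma.ι F w := by
    rw [Category.assoc O.ι, ← pullback.condition]
    simp [j, p]
  refine projective_trans ((O.ι ≫ p) ≫ Sigma.ι F w).appTop (j.isoImage O).inv.appTop _ ?_ ?_ ?_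
  · rw [← Scheme.Hom.comp_appTop, ← e1]
  · exact projective_trans (Sigma.ι F w).appTop (O.ι ≫ p).appTop _ (Scheme.Hom.comp_appTop _ _).symm hι hP
  · haveI : IsIso (j.isoImage O).inv.appTop :=
      (inferInstance : IsIso ((j.isoImage O).inv.app ⊤))
    refine projective_of_isPushout (a := 𝟙 _) (c := 𝟙 _) (b := (j.isoImage O).inv.appTop)
      (IsPushout.of_horiz_isIso ⟨by simp⟩) ?_
    rw [show (𝟙 Γ((O : Scheme.{u}), ⊤) : _ ⟶ _).hom.toAlgebra = Algebra.id _ from
      Algebra.algebra_ext _ _ fun _ => rfl]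
    infer_instance

end Groth.Agent.Lib.FreeRes
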