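import Groth.Agent.Lib.FreeRes.GrpTransp
import Groth.Agent.Lib.AlgSpMor.Cancel

/-!
# Transporters and centralizers in affine group schemes
-/

universe u

open CategoryTheory CategoryTheory.Limits AlgebraicGeometry MonoidalCategory CartesianMonoidalCategory
open CategoryTheory.MonObj

namespace Groth.Agent.Lib.FreeRes

set_option linter.style.haveILetI false

variable {S : Scheme.{u}} {G Y Y' : Over S} [GrpObj G]

theorem exists_transporter_fp [LocallyOfFinitePresentation G.hom] (y : Y ⟶ G) (y' : Y' ⟶ G)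
    [IsClosedImmersion y'.left] [LocallyOfFinitePresentation Y'.hom]
    (hY : SGA3x.IsEssentiallyFree Y.hom) (hqc : QuasiCompact Y.hom) :
    ∃ (C : Over S) (c : C ⟶ G), IsClosedImmersion c.left ∧ LocallyOfFinitePresentation C.hom ∧
      ∀ (X : Over S) (g : X ⟶ G), (∃ z : X ⟶ C, z ≫ c = g) ↔
        ∀ (X' : Over S) (x : X' ⟶ X) (a : X' ⟶ Y),
          ∃ a' : X' ⟶ Y', (x ≫ g) * (a ≫ y) * (x ≫ g)⁻¹ = a' ≫ y' := by
  obtain ⟨C, c, hc, hC, hfp⟩ := exists_transporter y' y hY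
  have hy : LocallyOfFinitePresentation y'.left :=
    AlgSpMor.Cancel.locallyOfFinitePresentation_of_comp (g := G.hom)
      (by rw [Over.w y']; infer_instance) inferInstance
  haveI := hfp hqc hy
  refine ⟨C, c, hc, ?_, fun X g => hC g⟩
  rw [← Over.w c]
  infer_instance

theorem exists_centralizer [IsSeparated G.hom] (y : Y ⟶ G) (hY : SGA3x.IsEssentiallyFree Y.hom) :
    ∃ (C : Over S) (c : C ⟶ G), IsClosedImmersion c.left ∧
      ∀ (X : Over S) (g : X ⟶ G), (∃ z : X ⟶ C, z ≫ c = g) ↔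
        ∀ (X' : Over S) (x : X' ⟶ X) (a : X' ⟶ Y), (x ≫ g) * (a ≫ y) = (a ≫ y) * (x ≫ g) := by
  obtain ⟨C, c, hc, hC⟩ := exists_closed_eq (P := G) (X := Y) hY
    (fst G Y * (snd G Y ≫ y)) ((snd G Y ≫ y) * fst G Y)
  refine ⟨C, c, hc, fun X g => ?_⟩
  rw [hC g, forall_pair_iff]
  simp only [MonObj.comp_mul, lift_fst, lift_snd_assoc]

end Groth.Agent.Lib.FreeRes
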