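import Groth.Agent.Lib.FreeRes.Locus
import Groth.Agent.Lib.HilbD.Content

/-!
# The vanishing locus for a projectively covered scheme over an affine base
-/

universe u

open CategoryTheory CategoryTheory.Limits AlgebraicGeometry TopologicalSpace
open Groth.Agent.Lib Groth.Agent.Lib.HilbD Groth.Agent.Lib.HilbD.Content Groth.Agent.Lib.Lim
open scoped TensorProduct

namespace Groth.Agent.Lib.FreeRes

set_option linter.style.haveILetI false

variable {Z S : Scheme.{u}}

/-- `Z` is covered by affine opens whose rings of sections are projective over the global sections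
of the base. -/
def ProjCovered (f : Z ⟶ S) : Prop :=
  ∀ x : Z, ∃ V : Z.Opens, x ∈ V ∧ IsAffineOpen V ∧
    (letI := (V.ι ≫ f).appTop.hom.toAlgebra; Module.Projective Γ(S, ⊤) Γ(↑V, ⊤))

section Alg

variable {A C : Type u} [CommRing A] [CommRing C] [Algebra A C]

/-- The content ideal of a finitely generated ideal is finitely generated. -/
theorem fg_contentIdeal [Module.Projective A C] {K : Ideal C} (hK : K.FG) :
    (contentIdeal A (K : Set C)).FG := by
  classical
  obtain ⟨t, ht⟩ := hK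
  obtain ⟨s, hs⟩ := (Module.projective_def').mp ‹Module.Projective A C›
  let gens : Finset A := t.biUnion fun y => (s y).support.image fun c => s y c
  refine ⟨gens, le_antisymm (Submodule.span_le.mpr fun a ha => ?_) ?_⟩
  · simp only [gens, Finset.coe_biUnion, Finset.coe_image, Set.mem_iUnion, Set.mem_image] at ha
    obtain ⟨y, hy, c, -, rfl⟩ := ha
    exact le_iSup (fun φ : Module.Dual A C => Ideal.span (φ '' (K : Set C))) ((Finsupp.lapply c).comp s)
      (Ideal.subset_span ⟨y, ht ▸ Ideal.subset_span hy, rfl⟩)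
  · let J : Ideal A := Submodule.span A (gens : Set A)
    have h : ∀ x ∈ (K : Set C), ((1 : A ⧸ J) ⊗ₜ[A] x : (A ⧸ J) ⊗[A] C) = 0 := by
      have h1 : K ≤ RingHom.ker
          (Algebra.TensorProduct.includeRight : C →ₐ[A] (A ⧸ J) ⊗[A] C).toRingHom := by
        rw [← ht]
        refine Ideal.span_le.mpr fun y hy => ?_
        show ((1 : A ⧸ J) ⊗ₜ[A] y : (A ⧸ J) ⊗[A] C) = 0
        have hy' : y = Finsupp.linearCombination A id (s y) := (LinearMap.congr_fun hs y).symm
        rw [hy', Finsupp.linearCombination_apply, Finsupp.sum, TensorProduct.tmul_sum]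
        refine Finset.sum_eq_zero fun c hc => ?_
        have : algebraMap A (A ⧸ J) (s y c) = 0 := Ideal.Quotient.eq_zero_iff_mem.mpr
          (Submodule.subset_span (Finset.mem_biUnion.mpr ⟨y, hy, Finset.mem_image.mpr ⟨c, hc, rfl⟩⟩))
        rw [TensorProduct.tmul_smul, TensorProduct.smul_tmul', Algebra.smul_def, this, zero_mul,
          TensorProduct.zero_tmul]
      exact fun x hx => h1 hx
    have := (contentIdeal_le_ker_iff (A' := A ⧸ J) (K : Set C)).2 h
    rwa [Ideal.Quotient.algebraMap_eq, Ideal.mk_ker] at this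

end Alg

/-- The content ideal on the affine base of an affine scheme with projective ring of sections. -/
theorem exists_represents_affine [IsAffine S] [IsAffine Z] (π : Z ⟶ S)
    (hπ : letI := π.appTop.hom.toAlgebra; Module.Projective Γ(S, ⊤) Γ(Z, ⊤))
    (K : Z.IdealSheafData) :
    ∃ I : S.IdealSheafData, Represents π K I ∧ (IdealExt.IsFG K → IdealExt.IsFG I) := by
  letI := π.appTop.hom.toAlgebra
  haveI := hπ
  let U : S.affineOpens := ⟨⊤, isAffineOpen_top S⟩
  let W : Z.affineOpens := ⟨π ⁻¹ᵁ U.1, U.2.preimage π⟩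
  let J : Ideal Γ(S, ⊤) := contentOn π K U
  refine ⟨Scheme.IdealSheafData.ofIdealTop J, ?_, fun hK U' => ?_⟩
  rotate_left
  · rw [Scheme.IdealSheafData.ofIdealTop_ideal]
    exact Ideal.FG.map (fg_contentIdeal (A := Γ(S, ⊤)) (C := Γ(Z, ⊤)) (hK W)) _
  intro Z' T' g' π' g sq
  haveI : IsAffineHom π' := MorphismProperty.of_isPullback sq inferInstance
  have hJ : (Scheme.IdealSheafData.ofIdealTop J).ideal U = J := by
    exact Scheme.IdealSheafData.equivOfIsAffine.right_inv J
  have key : ∀ U' : T'.affineOpens,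
      ((Scheme.IdealSheafData.ofIdealTop J).comap g).ideal U' = ⊥ ↔
      (K.comap g').ideal ⟨π' ⁻¹ᵁ U'.1, U'.2.preimage π'⟩ = ⊥ := fun U' => by
    have e : U'.1 ≤ g ⁻¹ᵁ U.1 := le_top
    have e' : π' ⁻¹ᵁ U'.1 ≤ g' ⁻¹ᵁ W.1 := le_top
    rw [Ideal.Comap.ideal_comap g _ U U' e, Ideal.map_eq_bot_iff_le_ker, hJ]
    letI := (g.appLE U.1 U'.1 e).hom.toAlgebra
    letI := (π'.app U'.1).hom.toAlgebra
    letI := (g'.appLE W.1 (π' ⁻¹ᵁ U'.1) e').hom.toAlgebra
    letI := ((π'.app U'.1).hom.comp (g.appLE U.1 U'.1 e).hom).toAlgebra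
    have hpush := isPushout_appLE sq U U' e e'
    haveI : IsScalarTower Γ(S, U.1) Γ(T', U'.1) Γ(Z', π' ⁻¹ᵁ U'.1) := .of_algebraMap_eq' rfl
    letI := (π.app U.1).hom.toAlgebra
    haveI : Module.Projective Γ(S, U.1) Γ(Z, π ⁻¹ᵁ U.1) := hπ
    haveI : IsScalarTower Γ(S, U.1) Γ(Z, π ⁻¹ᵁ U.1) Γ(Z', π' ⁻¹ᵁ U'.1) :=
      .of_algebraMap_eq' (congrArg CommRingCat.Hom.hom hpush.w)
    have hp : Algebra.IsPushout Γ(S, U.1) Γ(T', U'.1) Γ(Z, π ⁻¹ᵁ U.1) Γ(Z', π' ⁻¹ᵁ U'.1) :=
      CommRingCat.isPushout_iff_isPushout.mp hpush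
    rw [Ideal.Comap.ideal_comap g' K W ⟨π' ⁻¹ᵁ U'.1, U'.2.preimage π'⟩ e',
      Ideal.map_eq_bot_iff_le_ker]
    refine (contentIdeal_le_ker_iff (A' := Γ(T', U'.1)) _).trans ?_
    refine forall₂_congr fun x _ => ?_
    rw [RingHom.mem_ker, ← hp.out.equiv.map_eq_zero_iff, IsBaseChange.equiv_tmul, one_smul]
    rfl
  have htop : ⨆ V : T'.affineOpens, π' ⁻¹ᵁ V.1 = ⊤ := eq_top_iff.mpr fun z _ => by
    obtain ⟨V, hV, hz, -⟩ := exists_isAffineOpen_mem_and_subset (show π' z ∈ (⊤ : T'.Opens) from trivial)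
    exact TopologicalSpace.Opens.mem_iSup.mpr ⟨⟨V, hV⟩, hz⟩
  constructor
  · intro h
    refine Scheme.IdealSheafData.ext_of_iSup_eq_top
      (fun V : T'.affineOpens => ⟨π' ⁻¹ᵁ V.1, V.2.preimage π'⟩) htop fun V => ?_
    rw [Scheme.IdealSheafData.ideal_bot, Pi.bot_apply]
    exact (key V).mp (by rw [h, Scheme.IdealSheafData.ideal_bot, Pi.bot_apply])
  · intro h
    refine Scheme.IdealSheafData.ext ?_
    funext V
    rw [Scheme.IdealSheafData.ideal_bot, Pi.bot_apply]
    exact (key V).mpr (by rw [h, Scheme.IdealSheafData.ideal_bot, Pi.bot_apply])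

theorem comap_iSup_eq_bot_iff {ι : Sort*} {T : Scheme.{u}} (g : T ⟶ S) (I : ι → S.IdealSheafData) :
    (⨆ i, I i).comap g = ⊥ ↔ ∀ i, (I i).comap g = ⊥ := by
  simp only [← le_bot_iff, ← Scheme.IdealSheafData.le_map_iff_comap_le, iSup_le_iff]

theorem isFG_biSup {ι : Type*} (t : Finset ι) (I : ι → S.IdealSheafData)
    (h : ∀ i ∈ t, IdealExt.IsFG (I i)) : IdealExt.IsFG (t.sup I) := by
  classical
  induction t using Finset.induction_on with
  | empty => exact IdealExt.isFG_bot
  | insert a s ha ih =>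
    rw [Finset.sup_insert]
    exact IdealExt.isFG_sup (h a (Finset.mem_insert_self a s))
      (ih fun i hi => h i (Finset.mem_insert_of_mem hi))

theorem isFG_comap {T : Scheme.{u}} (g : T ⟶ S) {K : S.IdealSheafData} (hK : IdealExt.IsFG K) :
    IdealExt.IsFG (K.comap g) := by
  have hcov : ∀ x : T, ∃ (U : S.affineOpens) (V : T.affineOpens), x ∈ V.1 ∧ V.1 ≤ g ⁻¹ᵁ U.1 := fun x => by
    obtain ⟨U, V, -, hx, -, -, hle⟩ := Ideal.Comap.exists_affine_le_preimage g x
      (W := ⊤) trivial (U := ⊤) trivial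
    exact ⟨U, V, hx, hle⟩
  choose U V hx hle using hcov
  refine IdealExt.isFG_of_iSup_eq_top _ V
    (eq_top_iff.mpr fun x _ => TopologicalSpace.Opens.mem_iSup.mpr ⟨x, hx x⟩) fun x => ?_
  rw [Ideal.Comap.ideal_comap g K (U x) (V x) (hle x)]
  exact Ideal.FG.map (hK _) _

/-- **Vanishing locus for a projectively covered scheme over an affine base.** -/
theorem exists_represents_projCovered [IsAffine S] (f : Z ⟶ S) (hf : ProjCovered f)
    (K : Z.IdealSheafData) :
    ∃ I : S.IdealSheafData, Represents f K I ∧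
      (QuasiCompact f → IdealExt.IsFG K → IdealExt.IsFG I) := by
  classical
  choose V hxV hV hP using hf
  have hpiece : ∀ x, ∃ I : S.IdealSheafData, Represents ((V x).ι ≫ f) (K.comap (V x).ι) I ∧
      (IdealExt.IsFG (K.comap (V x).ι) → IdealExt.IsFG I) := fun x => by
    haveI : IsAffine (V x : Scheme.{u}) := hV x
    exact exists_represents_affine _ (hP x) _
  choose I hI hIfg using hpiece
  have htop : (⨆ x, V x) = ⊤ :=
    eq_top_iff.mpr fun x _ => TopologicalSpace.Opens.mem_iSup.mpr ⟨x, hxV x⟩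
  -- a finite subfamily when the base change is quasi-compact
  obtain ⟨P, hP', hfin⟩ : ∃ P : Z → Prop, (⨆ x : {x // P x}, V x.1) = ⊤ ∧
      (QuasiCompact f → Finite {x // P x}) := by
    by_cases hqc : QuasiCompact f
    · haveI := hqc
      haveI : CompactSpace Z := QuasiCompact.compactSpace_of_compactSpace f
      obtain ⟨t, ht⟩ := isCompact_univ.elim_finite_subcover (fun x => (V x : Set Z))
        (fun x => (V x).2) fun x _ => Set.mem_iUnion.mpr ⟨x, hxV x⟩
      refine ⟨(· ∈ t), eq_top_iff.mpr fun z _ => ?_, fun _ => inferInstance⟩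
      obtain ⟨x, hx, hz⟩ := Set.mem_iUnion₂.mp (ht (Set.mem_univ z))
      exact TopologicalSpace.Opens.mem_iSup.mpr ⟨⟨x, hx⟩, hz⟩
    · exact ⟨fun _ => True, eq_top_iff.mpr fun x _ =>
        TopologicalSpace.Opens.mem_iSup.mpr ⟨⟨x, trivial⟩, hxV x⟩, fun h => absurd h hqc⟩
  refine ⟨⨆ x : {x // P x}, I x.1, ?_, fun hqc hK => ?_⟩
  · intro Z' T' g' π' g sq
    rw [comap_iSup_eq_bot_iff]
    have h1 : ∀ x : {x // P x}, (I x.1).comap g = ⊥ ↔
        (K.comap g').comap (g' ⁻¹ᵁ V x.1).ι = ⊥ := fun x => by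
      rw [hI x.1 _ _ _ ((isPullback_morphismRestrict g' (V x.1)).paste_vert sq),
        ← Scheme.IdealSheafData.comap_comp, morphismRestrict_ι, Scheme.IdealSheafData.comap_comp]
    constructor
    · intro h
      have ht : (⨆ x : {x // P x}, g' ⁻¹ᵁ V x.1) = ⊤ := by
        rw [← Scheme.Hom.preimage_iSup, hP']; rfl
      refine Glue.ext (Scheme.openCoverOfIsOpenCover Z' _ ht) fun x => ?_
      exact ((h1 x).1 (h x)).trans (comap_bot _).symm
    · intro h x
      exact (h1 x).2 (by rw [h, comap_bot])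
  · haveI := hfin hqc
    haveI := Fintype.ofFinite {x // P x}
    rw [← Finset.sup_univ_eq_iSup]
    exact isFG_biSup _ _ fun x _ => hIfg _ (isFG_comap _ hK)

end Groth.Agent.Lib.FreeRes
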